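import Mathlib
import Cfsg.Agent.Lib.Helper50.CAI.Defs

set_option autoImplicit false

/-!
# [NOHALL] for project CAI (S2202)

In a group with the Zassenhaus-type structure `ZFacts` and trivial odd parts, no subgroup of odd
order is transitive (by conjugation) on the involutions.
-/

namespace Cfsg.Agent.Lib.Helper91.CAI

open Cfsg.Agent.Lib.Helper50.CAI

universe u

section aux

variable {G : Type u} [Group G]

theorem nh_orderOf_conj (d s : G) : orderOf (d * s * d⁻¹) = orderOf s := by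
  have := orderOf_injective (MulAut.conj d).toMonoidHom (MulAut.conj d).injective s
  simpa using this

theorem nh_mem_smul_iff (g x : G) (P : Sylow 2 G) :
    x ∈ ((g • P : Sylow 2 G) : Subgroup G) ↔ g⁻¹ * x * g ∈ (P : Subgroup G) := by
  rw [Sylow.coe_subgroup_smul, Subgroup.mem_pointwise_smul_iff_inv_smul_mem]
  simp [MulAut.smul_def]

theorem nh_conj_mem {g s : G} {P : Sylow 2 G} (hg : g • P = P) (hs : s ∈ (P : Subgroup G)) :
    g * s * g⁻¹ ∈ (P : Subgroup G) := by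
  have h : g * s * g⁻¹ ∈ ((g • P : Sylow 2 G) : Subgroup G) := by
    rw [nh_mem_smul_iff]
    have : g⁻¹ * (g * s * g⁻¹) * g = s := by group
    rw [this]; exact hs
  rwa [hg] at h

theorem nh_sq_eq_one {t : G} (ht : orderOf t = 2) : t * t = 1 := by
  have := pow_orderOf_eq_one t
  rwa [ht, pow_two] at this

theorem nh_ne_one {t : G} (ht : orderOf t = 2) : t ≠ 1 := by
  rintro rfl
  rw [orderOf_one] at ht
  omega

/-- An element of an odd-order subgroup lying in a Sylow 2-subgroup is trivial. -/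
theorem nh_eq_one_of_mem [Finite G] (D : Subgroup G) (hD : Odd (Nat.card D)) (P : Sylow 2 G)
    {x : G} (hxD : x ∈ D) (hxP : x ∈ (P : Subgroup G)) : x = 1 := by
  obtain ⟨k, hk⟩ := P.isPGroup' ⟨x, hxP⟩
  have hk' : x ^ 2 ^ k = 1 := by
    have := congrArg Subtype.val hk
    simpa using this
  have h1 : x ^ Nat.card D = 1 := by
    have h := pow_card_eq_one' (G := D) (x := ⟨x, hxD⟩)
    have h2 := congrArg Subtype.val h
    simpa only [SubmonoidClass.coe_pow, OneMemClass.coe_one] using h2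
  have hd1 : orderOf x ∣ 2 ^ k := orderOf_dvd_of_pow_eq_one hk'
  have hd2 : orderOf x ∣ Nat.card D := orderOf_dvd_of_pow_eq_one h1
  have hcop : Nat.Coprime (2 ^ k) (Nat.card D) :=
    Nat.Coprime.pow_left k (Nat.coprime_two_left.mpr hD)
  have : orderOf x ∣ 1 := by
    have := Nat.dvd_gcd hd1 hd2
    rwa [hcop.gcd_eq_one] at this
  exact orderOf_eq_one_iff.mp (Nat.dvd_one.mp this)

theorem nh_cz_le {P : Sylow 2 G} (BF : BasicFacts P) (hBz : Bz P = ⊥) :
    Cz P ≤ (P : Subgroup G) := by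
  intro x hx
  obtain ⟨s, hs, b, hb, rfl⟩ := BF.split x hx
  rw [hBz, Subgroup.mem_bot] at hb
  subst hb
  simpa using hs

theorem nh_exists_inv {P : Sylow 2 G} [Finite G] (BF : BasicFacts P) :
    ∃ s : G, s ∈ (P : Subgroup G) ∧ orderOf s = 2 := by
  have h3 := BF.three
  unfold mInv at h3
  have hpos : 0 < Nat.card {t : G // t ∈ (P : Subgroup G) ∧ orderOf t = 2} := by omega
  obtain ⟨⟨s, hs⟩⟩ := (Nat.card_pos_iff.mp hpos).1
  exact ⟨s, hs⟩

/-- The stabilizer of `P` in `D` acts regularly on the involutions of `P`. -/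
theorem nh_card_stab [Finite G] {P : Sylow 2 G} (BF : BasicFacts P) (hBz : Bz P = ⊥)
    (D : Subgroup G) (hD : Odd (Nat.card D))
    (hDtr : ∀ s t : G, orderOf s = 2 → orderOf t = 2 → ∃ d ∈ D, d * s * d⁻¹ = t) :
    Nat.card ↥(D ⊓ MulAction.stabilizer G P) = mInv P := by
  obtain ⟨s0, hs0, ho⟩ := nh_exists_inv BF
  unfold mInv
  let f : ↥(D ⊓ MulAction.stabilizer G P) → {t : G // t ∈ (P : Subgroup G) ∧ orderOf t = 2} :=
    fun d => ⟨(d : G) * s0 * (d : G)⁻¹,
      nh_conj_mem (MulAction.mem_stabilizer_iff.mp d.2.2) hs0, (nh_orderOf_conj _ _).trans ho⟩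
  apply Nat.card_eq_of_bijective f
  constructor
  · intro d d' hdd
    have h : (d : G) * s0 * (d : G)⁻¹ = (d' : G) * s0 * (d' : G)⁻¹ := congrArg Subtype.val hdd
    have hc : (d : G)⁻¹ * (d' : G) ∈ Subgroup.centralizer ({s0} : Set G) := by
      rw [Subgroup.mem_centralizer_iff]
      intro y hy
      rw [Set.mem_singleton_iff] at hy
      subst hy
      have hy2 : y = (d : G)⁻¹ * ((d' : G) * y * (d' : G)⁻¹) * (d : G) := by rw [← h]; group
      calc y * ((d : G)⁻¹ * (d' : G))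
          = (d : G)⁻¹ * ((d' : G) * y * (d' : G)⁻¹) * (d : G) * ((d : G)⁻¹ * (d' : G)) := by
            rw [← hy2]
        _ = (d : G)⁻¹ * (d' : G) * y := by group
    rw [BF.cent s0 hs0 ho] at hc
    have hP := nh_cz_le BF hBz hc
    have hDm : (d : G)⁻¹ * (d' : G) ∈ D := D.mul_mem (D.inv_mem d.2.1) d'.2.1
    have h1 := nh_eq_one_of_mem D hD P hDm hP
    apply Subtype.ext
    exact inv_mul_eq_one.mp h1
  · rintro ⟨t, htP, hto⟩
    obtain ⟨d, hdD, hd⟩ := hDtr s0 t ho hto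
    have hdP : d • P = P := by
      by_contra hne
      have ht1 : t = 1 := by
        apply BF.ti (d • P) hne t htP
        rw [nh_mem_smul_iff, ← hd]
        have : d⁻¹ * (d * s0 * d⁻¹) * d = s0 := by group
        rw [this]; exact hs0
      exact nh_ne_one hto ht1
    exact ⟨⟨d, hdD, MulAction.mem_stabilizer_iff.mpr hdP⟩, Subtype.ext hd⟩

/-- The number of Sylow 2-subgroups is `2 ^ k + 1`. -/
theorem nh_card_sylow [Finite G] (hZ : ZFacts G) {P : Sylow 2 G} (BF : BasicFacts P)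
    (hBz : Bz P = ⊥) {Q0 : Sylow 2 G} (hQ0 : Q0 ≠ P) :
    ∃ k : ℕ, Nat.card (Sylow 2 G) = 2 ^ k + 1 := by
  classical
  have hCz : Cz P = (P : Subgroup G) := le_antisymm (nh_cz_le BF hBz) BF.le
  have hfix : ∀ c ∈ Cz P, c • P = P := by
    intro c hc
    rw [Sylow.smul_eq_iff_mem_normalizer]
    exact Subgroup.le_normalizer (nh_cz_le BF hBz hc)
  let g : ↥(Cz P) → {Q : Sylow 2 G // Q ≠ P} := fun c => ⟨(c : G) • Q0, by
    intro h
    apply hQ0
    exact smul_left_cancel (c : G) (h.trans (hfix c c.2).symm)⟩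
  have hg : Function.Bijective g := by
    constructor
    · intro c c' hcc
      have h : (c : G) • Q0 = (c' : G) • Q0 := congrArg Subtype.val hcc
      obtain ⟨c0, -, -, huniq⟩ := hZ.reg P Q0 ((c' : G) • Q0) hQ0 (g c').2
      apply Subtype.ext
      rw [huniq c c.2 h, huniq c' c'.2 rfl]
    · rintro ⟨Q', hQ'⟩
      obtain ⟨c0, hc0, hc0Q, -⟩ := hZ.reg P Q0 Q' hQ0 hQ'
      exact ⟨⟨c0, hc0⟩, Subtype.ext hc0Q⟩
  have h1 : Nat.card ↥(Cz P) = Nat.card {Q : Sylow 2 G // Q ≠ P} :=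
    Nat.card_eq_of_bijective g hg
  obtain ⟨k, hk⟩ := (P.isPGroup').exists_card_eq
  refine ⟨k, ?_⟩
  rw [← Nat.card_congr (Equiv.optionSubtypeNe P), Finite.card_option, ← h1, hCz, hk]

/-- An element of odd prime order normalizing `P` fixes a second Sylow 2-subgroup. -/
theorem nh_exists_fixed [Finite G] (hZ : ZFacts G) {P : Sylow 2 G} (BF : BasicFacts P)
    (hBz : Bz P = ⊥) {Q0 : Sylow 2 G} (hQ0 : Q0 ≠ P) {p : ℕ} (hp : p.Prime) (hp2 : p ≠ 2)
    {d0 : G} (hd0 : orderOf d0 = p) (hd0P : d0 • P = P) :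
    ∃ Q : Sylow 2 G, Q ≠ P ∧ d0 • Q = Q := by
  by_contra hcon
  push Not at hcon
  have : Fact p.Prime := ⟨hp⟩
  have hpg : IsPGroup p ↥(Subgroup.zpowers d0) :=
    IsPGroup.of_card (n := 1) (by rw [Nat.card_zpowers, hd0, pow_one])
  have hmod := hpg.card_modEq_card_fixedPoints (Sylow 2 G)
  have hfp : MulAction.fixedPoints ↥(Subgroup.zpowers d0) (Sylow 2 G) = {P} := by
    ext Q
    rw [MulAction.mem_fixedPoints, Set.mem_singleton_iff]
    constructor
    · intro h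
      by_contra hne
      exact hcon Q hne (h ⟨d0, Subgroup.mem_zpowers d0⟩)
    · intro hQ
      rw [hQ]
      rintro ⟨x, hx⟩
      have hle : Subgroup.zpowers d0 ≤ MulAction.stabilizer G P := by
        rw [Subgroup.zpowers_le]; exact MulAction.mem_stabilizer_iff.mpr hd0P
      exact MulAction.mem_stabilizer_iff.mp (hle hx)
  rw [hfp] at hmod
  obtain ⟨k, hk⟩ := nh_card_sylow hZ BF hBz hQ0
  rw [hk] at hmod
  have hc1 : Nat.card ↥({P} : Set (Sylow 2 G)) = 1 := by simp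
  rw [hc1] at hmod
  have hdvd : p ∣ 2 ^ k := by
    have h := (Nat.modEq_iff_dvd' (Nat.le_add_left 1 (2 ^ k))).mp hmod.symm
    simpa using h
  have := (Nat.prime_dvd_prime_iff_eq hp Nat.prime_two).mp (hp.dvd_of_dvd_pow hdvd)
  exact hp2 this

/-- Two elements of `D` normalizing `P` commute. -/
theorem nh_comm [Finite G] (hZ : ZFacts G) {P Q : Sylow 2 G} (hPQ : P ≠ Q) (BF : BasicFacts P)
    (hBz : Bz P = ⊥) (D : Subgroup G) (hD : Odd (Nat.card D)) {x y : G} (hxD : x ∈ D)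
    (hyD : y ∈ D) (hxP : x • P = P) (hyP : y • P = P) : x * y = y * x := by
  have IF := hZ.inv P Q hPQ
  obtain ⟨⟨t, hto, htP⟩, -⟩ := hZ.swap P Q hPQ
  have htt := nh_sq_eq_one hto
  obtain ⟨d1, hd1, c1, hc1, rfl⟩ := IF.prod x hxP
  obtain ⟨d2, hd2, c2, hc2, rfl⟩ := IF.prod y hyP
  have hcomm : d1 * d2 = d2 * d1 := by
    have h1 := IF.inv t hto htP d1 hd1
    have h2 := IF.inv t hto htP d2 hd2
    have h12 := IF.inv t hto htP (d1 * d2) ((Dz P Q).mul_mem hd1 hd2)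
    have h3 : t * (d1 * d2) * t = (t * d1 * t) * (t * d2 * t) := by
      calc t * (d1 * d2) * t = t * d1 * 1 * d2 * t := by group
        _ = t * d1 * (t * t) * d2 * t := by rw [htt]
        _ = (t * d1 * t) * (t * d2 * t) := by group
    rw [h12, h1, h2, mul_inv_rev] at h3
    have h4 := congrArg Inv.inv h3
    simpa [mul_inv_rev] using h4
  have hd1P : d1 • P = P := MulAction.mem_stabilizer_iff.mp hd1.1
  have hd2P : d2 • P = P := MulAction.mem_stabilizer_iff.mp hd2.1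
  have hn : ∀ d : G, d • P = P → ∀ c ∈ Cz P, d⁻¹ * c * d ∈ Cz P := by
    intro d hd c hc
    have h := BF.conjC d c
    rw [hd] at h
    exact h.mp hc
  have hinv : d2⁻¹ * d1 = d1 * d2⁻¹ := by
    rw [inv_mul_eq_iff_eq_mul, ← mul_assoc, ← hcomm, mul_assoc, mul_inv_cancel, mul_one]
  have key : (d2 * c2 * (d1 * c1))⁻¹ * (d1 * c1 * (d2 * c2))
      = c1⁻¹ * (d1⁻¹ * c2⁻¹ * d1) * (d2⁻¹ * c1 * d2) * c2 := by
    calc (d2 * c2 * (d1 * c1))⁻¹ * (d1 * c1 * (d2 * c2))
        = c1⁻¹ * d1⁻¹ * c2⁻¹ * (d2⁻¹ * d1) * c1 * d2 * c2 := by group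
      _ = c1⁻¹ * d1⁻¹ * c2⁻¹ * (d1 * d2⁻¹) * c1 * d2 * c2 := by rw [hinv]
      _ = c1⁻¹ * (d1⁻¹ * c2⁻¹ * d1) * (d2⁻¹ * c1 * d2) * c2 := by group
  have hmemC : (d2 * c2 * (d1 * c1))⁻¹ * (d1 * c1 * (d2 * c2)) ∈ Cz P := by
    rw [key]
    exact (Cz P).mul_mem ((Cz P).mul_mem ((Cz P).mul_mem ((Cz P).inv_mem hc1)
      (hn d1 hd1P _ ((Cz P).inv_mem hc2))) (hn d2 hd2P _ hc1)) hc2
  have hmemD : (d2 * c2 * (d1 * c1))⁻¹ * (d1 * c1 * (d2 * c2)) ∈ D :=
    D.mul_mem (D.inv_mem (D.mul_mem hyD hxD)) (D.mul_mem hxD hyD)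
  have h1 := nh_eq_one_of_mem D hD P hmemD (nh_cz_le BF hBz hmemC)
  exact (inv_mul_eq_one.mp h1).symm

end aux

/-- [NOHALL] -/
theorem pkgNoHall (hB : PkgBasic.{u}) : PkgNoHall.{u} := by
  intro G _ _ hyp hBz hZ D hDodd hDtr
  obtain ⟨P⟩ := (inferInstance : Nonempty (Sylow 2 G))
  have BP := hB hyp P
  obtain ⟨Q0, hQ0⟩ : ∃ Q : Sylow 2 G, Q ≠ P := by
    by_contra h
    push Not at h
    have : Subsingleton (Sylow 2 G) := ⟨fun a b => (h a).trans (h b).symm⟩
    exact hyp.nnorm P (Sylow.normal_of_subsingleton P)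
  have hcardP := nh_card_stab BP (hBz P) D hDodd hDtr
  have hm3 := BP.three
  have hne1 : Nat.card ↥(D ⊓ MulAction.stabilizer G P) ≠ 1 := by omega
  obtain ⟨p, hp, hpd⟩ := Nat.exists_prime_and_dvd hne1
  have : Fact p.Prime := ⟨hp⟩
  obtain ⟨x0, hx0⟩ := exists_prime_orderOf_dvd_card' p hpd
  have hp2 : p ≠ 2 := by
    rintro rfl
    have h2D : 2 ∣ Nat.card D := hpd.trans (Subgroup.card_dvd_of_le inf_le_left)
    exact (Nat.not_even_iff_odd.mpr hDodd) (even_iff_two_dvd.mpr h2D)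
  obtain ⟨d0, hd0D, hd0P, hd0o⟩ : ∃ d0 : G, d0 ∈ D ∧ d0 • P = P ∧ orderOf d0 = p :=
    ⟨(x0 : G), x0.2.1, MulAction.mem_stabilizer_iff.mp x0.2.2, by
      rw [Subgroup.orderOf_coe, hx0]⟩
  have hd0ne : d0 ≠ 1 := by
    intro h
    rw [h, orderOf_one] at hd0o
    exact hp.one_lt.ne hd0o
  obtain ⟨Q, hQP, hd0Q⟩ := nh_exists_fixed hZ BP (hBz P) hQ0 hp hp2 hd0o hd0P
  have hPQ : P ≠ Q := fun h => hQP h.symm
  have BQ := hB hyp Q
  have hd0Dz : d0 ∈ Dz P Q :=
    ⟨MulAction.mem_stabilizer_iff.mpr hd0P, MulAction.mem_stabilizer_iff.mpr hd0Q⟩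
  have hle : D ⊓ MulAction.stabilizer G P ≤ D ⊓ MulAction.stabilizer G Q := by
    intro x hx
    refine ⟨hx.1, ?_⟩
    have hxP : x • P = P := MulAction.mem_stabilizer_iff.mp hx.2
    have hc := nh_comm hZ hPQ BP (hBz P) D hDodd hx.1 hd0D hxP hd0P
    have hfix : d0 • (x • Q) = x • Q := by
      rw [← mul_smul, ← hc, mul_smul, hd0Q]
    rcases hZ.fix2 P Q hPQ d0 hd0Dz hd0ne (x • Q) hfix with h | h
    · exfalso
      exact hQP (smul_left_cancel x (h.trans hxP.symm))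
    · exact MulAction.mem_stabilizer_iff.mpr h
  have hcardQ := nh_card_stab BQ (hBz Q) D hDodd hDtr
  have heq : D ⊓ MulAction.stabilizer G P = D ⊓ MulAction.stabilizer G Q :=
    Subgroup.eq_of_le_of_card_ge hle (by rw [hcardQ, hcardP, BP.minv Q])
  obtain ⟨s, hsP, hso⟩ := nh_exists_inv BP
  obtain ⟨t, htQ, hto⟩ := nh_exists_inv BQ
  obtain ⟨d, hdD, hd⟩ := hDtr s t hso hto
  have hdPQ : d • P = Q := by
    by_contra hne
    have ht1 : t = 1 := by
      apply BQ.ti (d • P) hne t htQ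
      rw [nh_mem_smul_iff, ← hd]
      have : d⁻¹ * (d * s * d⁻¹) * d = s := by group
      rw [this]; exact hsP
    exact nh_ne_one hto ht1
  obtain ⟨e, hedef⟩ : ∃ e : G, e = d * d0 * d⁻¹ := ⟨_, rfl⟩
  have heD : e ∈ D := by
    rw [hedef]; exact D.mul_mem (D.mul_mem hdD hd0D) (D.inv_mem hdD)
  have hdinvQ : d⁻¹ • Q = P := by rw [← hdPQ, inv_smul_smul]
  have heQ : e • Q = Q := by
    rw [hedef, mul_smul, mul_smul, hdinvQ, hd0P, hdPQ]
  have heP : e • P = P := by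
    have h : e ∈ D ⊓ MulAction.stabilizer G Q := ⟨heD, MulAction.mem_stabilizer_iff.mpr heQ⟩
    rw [← heq] at h
    exact MulAction.mem_stabilizer_iff.mp h.2
  have hene : e ≠ 1 := by
    intro h
    apply hd0ne
    have h2 : d0 = d⁻¹ * e * d := by rw [hedef]; group
    rw [h2, h]; group
  have heDz : e ∈ Dz P Q :=
    ⟨MulAction.mem_stabilizer_iff.mpr heP, MulAction.mem_stabilizer_iff.mpr heQ⟩
  have hefix : e • (d • Q) = d • Q := by
    rw [hedef, mul_smul, mul_smul, inv_smul_smul, hd0Q]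
  have hdQ : d • Q = P := by
    rcases hZ.fix2 P Q hPQ e heDz hene (d • Q) hefix with h | h
    · exact h
    · exfalso
      exact hQP (smul_left_cancel d (h.trans hdPQ.symm))
  have hddP : (d * d) • P = P := by rw [mul_smul, hdPQ, hdQ]
  have hdodd : Odd (orderOf d) := by
    have h : orderOf d ∣ Nat.card D := by
      have h' := orderOf_dvd_natCard (⟨d, hdD⟩ : D)
      rwa [← Subgroup.orderOf_coe] at h'
    exact Odd.of_dvd_nat hDodd h
  obtain ⟨j, hj⟩ := hdodd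
  have hdpow : d = (d * d) ^ (j + 1) := by
    have h1 : d ^ (2 * j + 1) = 1 := by rw [← hj]; exact pow_orderOf_eq_one d
    have h2 : (d * d) ^ (j + 1) = d ^ (2 * j + 1) * d := by
      rw [← pow_two, ← pow_mul, ← pow_succ]; congr 1
    rw [h2, h1, one_mul]
  have hdP : d • P = P := by
    have hmem : d * d ∈ MulAction.stabilizer G P := MulAction.mem_stabilizer_iff.mpr hddP
    have h := (MulAction.stabilizer G P).pow_mem hmem (j + 1)
    rw [← hdpow] at h
    exact MulAction.mem_stabilizer_iff.mp h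
  exact hQP (hdPQ.symm.trans hdP)

end Cfsg.Agent.Lib.Helper91.CAI
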